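import Groth.Agent.Lib.AffHull14.Kernel
import Groth.Prelude.Def_Red
import Mathlib.AlgebraicGeometry.Morphisms.FlatMono

/-!
An algebraic group has an anti-affine closed subgroup which is trivial only if the group is affine; as a
consequence, the minimal non-affine groups are the minimal non-trivial anti-affine ones.
-/

set_option autoImplicit false
set_option backward.isDefEq.respectTransparency false

universe u

open CategoryTheory CategoryTheory.Limits MonoidalCategory CartesianMonoidalCategory MonObj GrpObj AlgebraicGeometry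

noncomputable section

namespace GrothLib.MinNonAff15

variable {k : Type u} [Field k]

local notation "S" => Spec (CommRingCat.of k)

/-- An affine scheme whose global functions are the constants is the base. -/
theorem isIso_hom_of_isAffine_of_antiAffine {X : Over S} [IsAffine X.left]
    (hX : GrothLib.AntiAffine.IsAntiAffine X) : IsIso X.hom := by
  haveI := hX.isIso
  rw [show X.hom = X.left.isoSpec.hom ≫ Spec.map X.hom.appTop ≫ (S).isoSpec.inv by
    rw [Scheme.isoSpec_hom_naturality_assoc, Iso.hom_inv_id, Category.comp_id]]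
  infer_instance

/-- Anti-affineness is invariant under isomorphisms over the base. -/
theorem antiAffine_of_isIso {X Y : Over S} (f : X ⟶ Y) [IsIso f] (hX : GrothLib.AntiAffine.IsAntiAffine X) :
    GrothLib.AntiAffine.IsAntiAffine Y := by
  haveI : IsIso f.left := (Over.forget _).map_isIso f
  haveI := hX.isIso
  haveI : IsIso (Y.hom.appTop ≫ f.left.appTop) := by
    rw [← Scheme.Hom.comp_appTop, Over.w f]
    infer_instance
  haveI : IsIso Y.hom.appTop := IsIso.of_isIso_comp_right _ f.left.appTop
  exact ConcreteCategory.bijective_of_isIso (C := CommRingCat)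
    ((Scheme.ΓSpecIso (CommRingCat.of k)).inv ≫ Y.hom.appTop)

/-- The anti-affine subgroup detecting affineness. -/
theorem exists_antiAffine_subgroup (G : Over S) [GrpObj G] [LocallyOfFiniteType G.hom] [QuasiCompact G.hom] :
    ∃ (N : Over S) (_ : GrpObj N) (i : N ⟶ G),
      IsMonHom i ∧ IsClosedImmersion i.left ∧ GrothLib.AntiAffine.IsAntiAffine N ∧
      (IsIso N.hom → IsAffine G.left) := by
  haveI : IsLocallyNoetherian G.left := LocallyOfFiniteType.isLocallyNoetherian G.hom
  haveI : QuasiSeparated G.hom := inferInstance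
  have hanti := (GrothLib.AffHull14.exists_kernel G).choose_spec.2.2
  obtain ⟨hsur, hfl, hlft⟩ := GrothLib.AffHull14.toSpecΓ_faithfullyFlat G
  have hi := GrothLib.AffHull14.isHull_toHull G
  haveI := hi.affine
  obtain ⟨_, hmon⟩ := GrothLib.AffHull14.exists_grpObj_hull hi
  haveI := hmon
  let H := GrothLib.AffHull14.hullObj G
  let ρ : G ⟶ H := GrothLib.AffHull14.toHull G
  let N : Over S := Over.mk (pullback.snd G.left.toSpecΓ (η[G].left ≫ G.left.toSpecΓ) ≫
        (𝟙_ (Over (Spec (CommRingCat.of k)))).hom)
  have hη : η[H].left = η[G].left ≫ G.left.toSpecΓ := by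
    rw [← IsMonHom.one_hom ρ]; rfl
  let i : N ⟶ G := Over.homMk (pullback.fst _ _) (by
    show pullback.fst G.left.toSpecΓ (η[G].left ≫ G.left.toSpecΓ) ≫ G.hom = pullback.snd _ _ ≫ _
    rw [← Over.w ρ, ← Over.w η[G], ← Category.assoc]
    show (pullback.fst G.left.toSpecΓ _ ≫ G.left.toSpecΓ) ≫ H.hom = _
    rw [pullback.condition, Category.assoc, Category.assoc]
    congr 2
    exact Over.w ρ)
  have sqS : IsPullback i.left (toUnit N).left ρ.left η[H].left := by
    have h := Over.w (toUnit N)
    change (toUnit N).left ≫ 𝟙 _ = pullback.snd _ _ ≫ 𝟙 _ at h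
    rw [Category.comp_id, Category.comp_id] at h
    rw [hη, h]
    exact IsPullback.of_hasPullback G.left.toSpecΓ (η[G].left ≫ G.left.toSpecΓ)
  have sqN : IsPullback i (toUnit N) ρ η[H] :=
    IsPullback.of_map (Over.forget _) (Over.OverMorphism.ext sqS.w) sqS
  haveI : Mono i := GrothLib.GrpSchField.mono_of_kernel sqN
  have hfac : ∀ (T : Over S) (g : T ⟶ G), g ≫ ρ = 1 → ∃ z : T ⟶ N, z ≫ i = g :=
    fun T g hg => GrothLib.GrpSchField.exists_lift_of_comp_eq_one sqN g hg
  have hiρ : i ≫ ρ = 1 := GrothLib.GrpSchField.comp_eq_one sqN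
  obtain ⟨gN, hmi⟩ := GrothLib.EssFree.exists_grpObj_of_mono i
    (fun T => hfac T 1 (by rw [MonObj.one_comp]))
    (fun T a b => hfac T _ (by
      rw [MonObj.mul_comp, Category.assoc, Category.assoc, hiρ, MonObj.comp_one, MonObj.comp_one, _root_.mul_one]))
    (fun T a => hfac T _ (by rw [GrpObj.inv_comp, Category.assoc, hiρ, MonObj.comp_one, inv_one]))
  haveI : IsSeparated H.hom := inferInstance
  haveI : IsClosedImmersion η[H].left := by
    haveI : IsClosedImmersion (η[H].left ≫ H.hom) := by
      rw [Over.w η[H]]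
      exact inferInstanceAs (IsClosedImmersion (𝟙 _))
    exact IsClosedImmersion.of_comp η[H].left H.hom
  have hci : IsClosedImmersion i.left := MorphismProperty.of_isPullback sqS.flip ‹_›
  refine ⟨N, gN, i, hmi, hci, hanti, fun hiso => ?_⟩
  haveI : Flat ρ.left := hfl
  haveI : Surjective ρ.left := hsur
  haveI : LocallyOfFiniteType H.hom := hlft
  haveI : IsLocallyNoetherian H.left := LocallyOfFiniteType.isLocallyNoetherian H.hom
  haveI : Mono ρ.left := by
    constructor
    intro T a b hab
    let T' : Over S := Over.mk (a ≫ G.hom)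
    let a' : T' ⟶ G := Over.homMk a rfl
    let b' : T' ⟶ G := Over.homMk b (by
      show b ≫ G.hom = a ≫ G.hom
      rw [← Over.w ρ, ← Category.assoc, ← hab, Category.assoc])
    have hab' : a' ≫ ρ = b' ≫ ρ := Over.OverMorphism.ext hab
    obtain ⟨z, hz⟩ := hfac T' (a' * b'⁻¹) (by
      rw [MonObj.mul_comp, GrpObj.inv_comp, hab', mul_inv_cancel])
    have hz1 : z = (1 : T' ⟶ N) := by
      apply Over.OverMorphism.ext
      rw [← cancel_mono N.hom, Over.w z, Over.w (1 : T' ⟶ N)]
    rw [hz1, MonObj.one_comp] at hz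
    exact congrArg (fun f => f.left) (mul_inv_eq_one.1 hz.symm)
  haveI : LocallyOfFiniteType ρ.left := by
    haveI : LocallyOfFiniteType (ρ.left ≫ H.hom) := by rw [Over.w ρ]; infer_instance
    exact locallyOfFiniteType_of_comp _ H.hom
  haveI : LocallyOfFinitePresentation ρ.left := inferInstance
  haveI : CompactSpace G.left := QuasiCompact.compactSpace_of_compactSpace G.hom
  haveI : QuasiCompact ρ.left := by
    haveI : QuasiCompact (ρ.left ≫ H.hom) := by rw [Over.w ρ]; infer_instance
    exact QuasiCompact.of_comp _ H.hom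
  haveI : IsIso ρ.left := Flat.isIso_of_surjective_of_mono _
  exact IsAffine.of_isIso ρ.left

/-- The minimal non-affine groups are the minimal non-trivial anti-affine groups. -/
theorem main (G : Over S) [GrpObj G] [LocallyOfFiniteType G.hom] [QuasiCompact G.hom]
    (hG : ¬ Red.IsTrivialGrp G) :
    (¬ IsAffine G.left ∧ ∀ (H : Over S) [GrpObj H] (h : H ⟶ G) [IsMonHom h] [IsClosedImmersion h.left],
        ¬ IsIso h → IsAffine H.left) ↔
    (GrothLib.AntiAffine.IsAntiAffine G ∧ ∀ (H : Over S) [GrpObj H] (h : H ⟶ G) [IsMonHom h]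
        [IsClosedImmersion h.left], ¬ IsIso h → GrothLib.AntiAffine.IsAntiAffine H → Red.IsTrivialGrp H) := by
  constructor
  · rintro ⟨hna, hsub⟩
    refine ⟨?_, fun H _ h _ _ hh hH => ?_⟩
    · obtain ⟨N, _, i, _, _, hN, htriv⟩ := exists_antiAffine_subgroup G
      by_cases hi : IsIso i
      · exact antiAffine_of_isIso i hN
      · haveI := hsub N i hi
        exact absurd (htriv (isIso_hom_of_isAffine_of_antiAffine hN)) hna
    · haveI := hsub H h hh
      exact isIso_hom_of_isAffine_of_antiAffine hH
  · rintro ⟨hA, hsub⟩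
    refine ⟨fun ha => hG (isIso_hom_of_isAffine_of_antiAffine (X := G) hA), fun H _ h _ _ hh => ?_⟩
    haveI : LocallyOfFiniteType H.hom := by rw [← Over.w h]; infer_instance
    haveI : QuasiCompact H.hom := by rw [← Over.w h]; infer_instance
    obtain ⟨N, _, i, _, _, hN, htriv⟩ := exists_antiAffine_subgroup H
    haveI : Mono h := Functor.mono_of_mono_map (Over.forget _) (inferInstanceAs (Mono h.left))
    haveI : IsClosedImmersion (i ≫ h).left := inferInstanceAs (IsClosedImmersion (i.left ≫ h.left))
    refine htriv (hsub N (i ≫ h) (fun hiso => hh ?_) hN)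
    haveI : IsSplitEpi h := IsSplitEpi.mk' ⟨inv (i ≫ h) ≫ i, by rw [Category.assoc, IsIso.inv_hom_id]⟩
    exact isIso_of_mono_of_isSplitEpi h

end GrothLib.MinNonAff15
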